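import Groth.Agent.StFib.LqfSlice.Alg
import Groth.Agent.AlgSpB.Art.Slice

/-!
# Slices of a smooth groupoid of schemes with quasi-finite diagonal
-/

set_option autoImplicit false
set_option backward.isDefEq.respectTransparency false
set_option backward.isDefEq.respectTransparency.types false

universe u

open CategoryTheory CategoryTheory.Limits AlgebraicGeometry
open Groth.Agent.AlgSpB.Art (fibMap comap_fibMap_over isPullback_comp_mono' isPushout_quotient)

namespace Groth.Agent.StFib.LqfSlice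

/-- A locally quasi-finite morphism separates comparable points. -/
theorem eq_of_specializes {X Y : Scheme.{u}} (f : X ⟶ Y) [LocallyQuasiFinite f] {x y : X} (h : x ⤳ y)
    (e : f x = f y) : x = y := by
  have hd := f.isDiscrete_preimage_singleton (f y)
  have hd' := hd.to_subtype
  have h' : (⟨x, e⟩ : f ⁻¹' {f y}) ⤳ ⟨y, rfl⟩ := (subtype_specializes_iff _ _).2 h
  exact congrArg Subtype.val h'.eq

/-- Closed points of fibres are quasi-finite over the base. -/
theorem lqf_fromSpecResidueField_comp {U S : Scheme.{u}} (f : U ⟶ S) [LocallyOfFiniteType f] (u₀ : U)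
    (hu : IsClosed ({f.asFiber u₀} : Set (f.fiber (f u₀)))) :
    LocallyQuasiFinite (U.fromSpecResidueField u₀ ≫ f) := by
  let c' := f.asFiberHom u₀
  have hc : c' ≫ f.fiberι (f u₀) = U.fromSpecResidueField u₀ := pullback.lift_fst _ _ _
  have : IsPreimmersion (c' ≫ f.fiberι (f u₀)) := hc ▸ inferInstance
  have : IsPreimmersion c' := IsPreimmersion.of_comp c' (f.fiberι (f u₀))
  have hr : Set.range c' = {f.asFiber u₀} := by
    ext z
    constructor
    · rintro ⟨w, rfl⟩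
      refine (f.fiberι (f u₀)).isEmbedding.injective ?_
      rw [← Scheme.Hom.comp_apply, hc, Scheme.Hom.fiberι_asFiber]
      exact Scheme.fromSpecResidueField_apply u₀ w
    · rintro rfl
      refine ⟨IsLocalRing.closedPoint _, (f.fiberι (f u₀)).isEmbedding.injective ?_⟩
      rw [← Scheme.Hom.comp_apply, hc, Scheme.Hom.fiberι_asFiber]
      exact Scheme.fromSpecResidueField_apply u₀ _
  have : IsClosedImmersion c' := .of_isPreimmersion _ (hr ▸ hu)
  let π := c' ≫ f.fiberToSpecResidueField (f u₀)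
  have : LocallyOfFiniteType (f.fiberToSpecResidueField (f u₀)) :=
    MorphismProperty.pullback_snd _ _ ‹LocallyOfFiniteType f›
  have : LocallyOfFiniteType π := inferInstance
  have : IsFinite π := isFinite_iff_locallyOfFiniteType_of_jacobsonSpace.2 this
  rw [← hc, Category.assoc, show f.fiberι (f u₀) ≫ f =
    f.fiberToSpecResidueField (f u₀) ≫ S.fromSpecResidueField (f u₀) from pullback.condition, ← Category.assoc]
  exact inferInstanceAs (LocallyQuasiFinite (π ≫ S.fromSpecResidueField (f u₀)))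

/-- Comparable pairs with one component a closed point of its fibre are equal. -/
theorem eq_of_specializes_pair {S U P R : Scheme.{u}} {f : U ⟶ S} [LocallyOfFiniteType f] {p₁ p₂ : P ⟶ U}
    (sq : IsPullback p₁ p₂ f f) (d : R ⟶ P) [LocallyQuasiFinite d] (u₀ : U)
    (hu : IsClosed ({f.asFiber u₀} : Set (f.fiber (f u₀)))) {x y : R} (h : x ⤳ y)
    (hx : p₁ (d x) = u₀) (hy : p₁ (d y) = u₀) (e : p₂ (d x) = p₂ (d y)) : x = y := by
  refine eq_of_specializes d h ?_
  let c := U.fromSpecResidueField u₀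
  have := lqf_fromSpecResidueField_comp f u₀ hu
  let q : pullback p₁ c ⟶ P := pullback.fst p₁ c
  have hq : LocallyQuasiFinite (q ≫ p₂) :=
    MorphismProperty.of_isPullback (P := @LocallyQuasiFinite)
      ((IsPullback.of_hasPullback p₁ c).flip.paste_vert sq) ‹_›
  have hr : ∀ z : P, p₁ z = u₀ → ∃ z', q z' = z := fun z hz => by
    have : z ∈ Set.range q := by
      rw [Scheme.Pullback.range_fst, Scheme.range_fromSpecResidueField]
      exact hz
    exact this
  obtain ⟨x', hx'⟩ := hr _ hx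
  obtain ⟨y', hy'⟩ := hr _ hy
  have hspec : x' ⤳ y' := by
    rw [← q.isEmbedding.isInducing.specializes_iff, hx', hy']
    exact h.map d.continuous
  have : x' = y' := eq_of_specializes (q ≫ p₂) hspec (by
    rw [Scheme.Hom.comp_apply, Scheme.Hom.comp_apply, hx', hy', e])
  rw [← hx', ← hy', this]

variable {R U : Scheme.{u}} (s t : R ⟶ U) [Smooth s] [Smooth t] [Surjective s]

set_option maxHeartbeats 1600000 in
/-- The sliced chart at a point. -/
theorem exists_good_open (u₀ : U)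
    (hdisc : ∀ x y : R, x ⤳ y → s x = u₀ → s y = u₀ → t x = t y → x = y) :
    ∃ (Z : Scheme.{u}) (q : Z ⟶ U) (Y : Scheme.{u}) (a : Y ⟶ R) (b : Y ⟶ Z) (O : Y.Opens) (y : Y),
      LocallyOfFinitePresentation q ∧ IsPullback a b t q ∧ y ∈ O ∧ s (a y) = u₀ ∧
      Flat (O.ι ≫ a ≫ s) ∧ LocallyQuasiFinite (O.ι ≫ a ≫ s) := by
  obtain ⟨_, ⟨U₀, hT, rfl⟩, hu₀, -⟩ := U.isBasis_affineOpens.exists_subset_of_mem_open
    (Set.mem_univ u₀) isOpen_univ
  obtain ⟨e₀, he₀⟩ := s.surjective u₀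
  obtain ⟨_, ⟨Z₁, hZ₁, rfl⟩, he₁, -⟩ := U.isBasis_affineOpens.exists_subset_of_mem_open
    (Set.mem_univ (t e₀)) isOpen_univ
  obtain ⟨_, ⟨O, hO, rfl⟩, heO, hOZ⟩ := R.isBasis_affineOpens.exists_subset_of_mem_open
    (show e₀ ∈ (s ⁻¹ᵁ U₀ ⊓ t ⁻¹ᵁ Z₁ : R.Opens) from ⟨(congrArg (· ∈ U₀) he₀).mpr hu₀, he₁⟩)
    (s ⁻¹ᵁ U₀ ⊓ t ⁻¹ᵁ Z₁).2
  replace hT : IsAffineOpen U₀ := hT
  replace hO : IsAffineOpen O := hO
  replace hZ₁ : IsAffineOpen Z₁ := hZ₁
  have eT : O ≤ s ⁻¹ᵁ U₀ := fun z hz => (hOZ hz).1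
  have eZ : O ≤ t ⁻¹ᵁ Z₁ := fun z hz => (hOZ hz).2
  let R' := Γ(U, U₀)
  let A := Γ(U, Z₁)
  let B := Γ(R, O)
  let φ : A ⟶ B := t.appLE Z₁ O eZ
  let ρ : R' ⟶ B := s.appLE U₀ O eT
  letI : Algebra R' B := ρ.hom.toAlgebra
  have : Algebra.FinitePresentation R' B := s.finitePresentation_appLE hT hO eT
  have : Module.Flat R' B := (inferInstance : Flat s).flat_appLE hT hO eT
  let p₀ := (hT.primeIdealOf ⟨u₀, hu₀⟩).asIdeal
  have hp₀ : hT.fromSpec (hT.primeIdealOf ⟨u₀, hu₀⟩) = u₀ := hT.fromSpec_primeIdealOf ⟨u₀, hu₀⟩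
  -- points of the chart over the given point
  have hsP : ∀ P : Spec B, s (hO.fromSpec P) = hT.fromSpec (Spec.map ρ P) := fun P => by
    rw [← Scheme.Hom.comp_apply, ← IsAffineOpen.SpecMap_appLE_fromSpec s hT hO eT, Scheme.Hom.comp_apply]
  have htP : ∀ P : Spec B, t (hO.fromSpec P) = hZ₁.fromSpec (Spec.map φ P) := fun P => by
    rw [← Scheme.Hom.comp_apply, ← IsAffineOpen.SpecMap_appLE_fromSpec t hZ₁ hO eZ, Scheme.Hom.comp_apply]
  have hQ₀ : (hO.primeIdealOf ⟨e₀, heO⟩).asIdeal.comap (algebraMap R' B) = p₀ := by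
    have e : Spec.map ρ (hO.primeIdealOf ⟨e₀, heO⟩) = hT.primeIdealOf ⟨u₀, hu₀⟩ := by
      apply hT.fromSpec.isOpenEmbedding.injective
      rw [← hsP, hO.fromSpec_primeIdealOf, hp₀]
      exact he₀
    exact congrArg PrimeSpectrum.asIdeal e
  have : Nontrivial (p₀.Fiber B) := by
    have P := PrimeSpectrum.preimageEquivFiber R' B ⟨p₀, inferInstance⟩
      ⟨hO.primeIdealOf ⟨e₀, heO⟩, PrimeSpectrum.ext hQ₀⟩
    exact PrimeSpectrum.nonempty_iff_nontrivial.1 ⟨P⟩
  -- comparable points of the fibre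
  have hdisc' : DiscreteFibres ((fibMap p₀).comp φ.hom) := by
    intro η m hη hm hle he
    let Pη : Spec B := ⟨η.comap (fibMap p₀), hη.comap _⟩
    let Pm : Spec B := ⟨m.comap (fibMap p₀), hm.comap _⟩
    have hov : ∀ (q : Ideal (p₀.Fiber B)) (hq : q.IsPrime),
        s (hO.fromSpec ⟨q.comap (fibMap p₀), hq.comap _⟩) = u₀ := fun q hq => by
      rw [hsP]
      exact (congrArg hT.fromSpec (PrimeSpectrum.ext (comap_fibMap_over p₀ q))).trans hp₀
    have hPle : (⟨η.comap (fibMap p₀), hη.comap _⟩ : PrimeSpectrum B) ≤ ⟨m.comap (fibMap p₀), hm.comap _⟩ :=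
      fun z hz => hle hz
    have key : hO.fromSpec Pη = hO.fromSpec Pm :=
      hdisc _ _ (((PrimeSpectrum.le_iff_specializes _ _).1 hPle).map hO.fromSpec.continuous)
        (hov η hη) (hov m hm) (by
          rw [htP, htP]
          congr 1
          refine PrimeSpectrum.ext ?_
          show (η.comap (fibMap p₀)).comap φ.hom = (m.comap (fibMap p₀)).comap φ.hom
          rw [Ideal.comap_comap, Ideal.comap_comap]
          exact he)
    have key' : η.comap (fibMap p₀) = m.comap (fibMap p₀) :=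
      congrArg PrimeSpectrum.asIdeal (hO.fromSpec.isOpenEmbedding.injective key)
    refine le_antisymm hle fun z hz => ?_
    obtain ⟨b, hb⟩ := Groth.Agent.AlgSpB.Art.exists_fibMap_eq p₀ z
    refine (hb η).1 ?_
    have : b ∈ m.comap (fibMap p₀) := (hb m).2 hz
    rwa [← key'] at this
  obtain ⟨J, Q, g, hJ, hQp, hJQ, hQ, hgQ, hflat, hiso⟩ := exists_slice_qf p₀ φ.hom hdisc'
  -- the slice
  let Aq : CommRingCat := CommRingCat.of (A ⧸ J)
  let mk₁ : A ⟶ Aq := CommRingCat.ofHom (Ideal.Quotient.mk J)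
  let zι : Spec Aq ⟶ U := Spec.map mk₁ ≫ hZ₁.fromSpec
  have hqp : LocallyOfFinitePresentation zι := by
    have : LocallyOfFinitePresentation (Spec.map mk₁) := by
      rw [HasRingHomProperty.Spec_iff (P := @LocallyOfFinitePresentation)]
      exact RingHom.FinitePresentation.of_surjective _ Ideal.Quotient.mk_surjective
        (by show (RingHom.ker (Ideal.Quotient.mk J)).FG; rwa [Ideal.mk_ker])
    exact inferInstanceAs (LocallyOfFinitePresentation (Spec.map mk₁ ≫ hZ₁.fromSpec))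
  let Y := pullback t zι
  let a : Y ⟶ R := pullback.fst t zι
  let Bq : CommRingCat := CommRingCat.of (B ⧸ J.map φ.hom)
  let mk₂ : B ⟶ Bq := CommRingCat.ofHom (Ideal.Quotient.mk (J.map φ.hom))
  let φq : Aq ⟶ Bq := CommRingCat.ofHom (Ideal.quotientMap (J.map φ.hom) φ.hom Ideal.le_comap_map)
  have sB' : IsPullback (Spec.map mk₂) (Spec.map φq) (Spec.map φ ≫ hZ₁.fromSpec) zι :=
    isPullback_comp_mono' (isPullback_SpecMap_of_isPushout _ _ _ _ (isPushout_quotient φ J)) hZ₁.fromSpec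
  rw [IsAffineOpen.SpecMap_appLE_fromSpec t hZ₁ hO eZ] at sB'
  have sY : IsPullback a (pullback.snd t zι) t zι := IsPullback.of_hasPullback t zι
  obtain ⟨j₀, hj1, hj2⟩ := sY.exists_lift (Spec.map mk₂ ≫ hO.fromSpec) (Spec.map φq) (by
    rw [Category.assoc]; exact sB'.w)
  have sj : IsPullback (Spec.map mk₂) j₀ hO.fromSpec a :=
    IsPullback.of_bot (by rw [hj2]; exact sB') hj1.symm sY
  have hj : IsOpenImmersion j₀ := MorphismProperty.of_isPullback (P := @IsOpenImmersion) sj inferInstance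
  let M := Algebra.algebraMapSubmonoid (B ⧸ J.map φ.hom) (Submonoid.powers g)
  let Cq := Localization M
  let ℓ : Bq ⟶ CommRingCat.of Cq := CommRingCat.ofHom (algebraMap (B ⧸ J.map φ.hom) Cq)
  have : IsLocalization.Away (Ideal.Quotient.mk (J.map φ.hom) g) Cq := by
    have e : M = Submonoid.powers (Ideal.Quotient.mk (J.map φ.hom) g) := Submonoid.map_powers _ g
    rw [IsLocalization.Away, ← e]
    infer_instance
  have hℓ : IsOpenImmersion (Spec.map ℓ) := IsOpenImmersion.of_isLocalization (Ideal.Quotient.mk (J.map φ.hom) g)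
  let jW : Spec (CommRingCat.of Cq) ⟶ Y := Spec.map ℓ ≫ j₀
  let fW := jW ≫ a ≫ s
  have hy₀ : fW = Spec.map (ρ ≫ mk₂ ≫ ℓ) ≫ hT.fromSpec := by
    simp only [fW, jW, Category.assoc, reassoc_of% hj1, Spec.map_comp]
    rw [← IsAffineOpen.SpecMap_appLE_fromSpec s hT hO eT]
  have hWflat : Flat fW := by
    rw [hy₀]
    have : Flat (Spec.map (ρ ≫ mk₂ ≫ ℓ)) := by
      rw [HasRingHomProperty.Spec_iff (P := @Flat)]
      have hfl : Module.Flat R' Cq :=
        FlatOpen.flat_of_flatAt_basicOpen (R := R') g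
          (IsScalarTower.toAlgHom B (B ⧸ J.map φ.hom) Cq).toLinearMap fun P _ hgP => hflat P hgP
      exact RingHom.flat_algebraMap_iff.2 hfl
    infer_instance
  -- the point
  have hQne : Ideal.Quotient.mk (J.map φ.hom) g ∉ Q.map (Ideal.Quotient.mk (J.map φ.hom)) := fun h => by
    rw [Ideal.mem_quotient_iff_mem_sup, sup_of_le_left hJQ] at h
    exact hgQ h
  have hQq : (Q.map (Ideal.Quotient.mk (J.map φ.hom))).IsPrime :=
    Ideal.map_isPrime_of_surjective Ideal.Quotient.mk_surjective (by rwa [Ideal.mk_ker])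
  let Qq : PrimeSpectrum (B ⧸ J.map φ.hom) := ⟨_, hQq⟩
  obtain ⟨w, hw⟩ : Qq ∈ Set.range (PrimeSpectrum.comap (algebraMap (B ⧸ J.map φ.hom) Cq)) := by
    rw [PrimeSpectrum.localization_away_comap_range Cq (Ideal.Quotient.mk (J.map φ.hom) g)]
    exact hQne
  have hover : ∀ w' : Spec (CommRingCat.of Cq), fW w' = u₀ → (Spec.map (mk₂ ≫ ℓ) w').asIdeal = Q := by
    intro w' hw'
    let P := Spec.map (mk₂ ≫ ℓ) w'
    refine hiso P.asIdeal P.2 (fun hgP => ?_) ?_ ?_
    · exact w'.2.ne_top (Ideal.eq_top_of_isUnit_mem _ hgP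
        (IsLocalization.Away.algebraMap_isUnit (S := Cq) (Ideal.Quotient.mk (J.map φ.hom) g)))
    · intro x hx
      show algebraMap (B ⧸ J.map φ.hom) Cq (Ideal.Quotient.mk _ x) ∈ w'.asIdeal
      rw [Ideal.Quotient.eq_zero_iff_mem.2 hx, map_zero]
      exact w'.asIdeal.zero_mem
    · rw [hy₀, Scheme.Hom.comp_apply] at hw'
      exact congrArg PrimeSpectrum.asIdeal (hT.fromSpec.isOpenEmbedding.injective (hw'.trans hp₀.symm))
  have hwQ : (Spec.map (mk₂ ≫ ℓ) w).asIdeal = Q := by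
    have e : (PrimeSpectrum.comap (algebraMap (B ⧸ J.map φ.hom) Cq) w).asIdeal =
        Q.map (Ideal.Quotient.mk (J.map φ.hom)) := congrArg PrimeSpectrum.asIdeal hw
    show (PrimeSpectrum.comap (algebraMap (B ⧸ J.map φ.hom) Cq) w).asIdeal.comap
      (Ideal.Quotient.mk (J.map φ.hom)) = Q
    rw [e, Ideal.comap_map_of_surjective _ Ideal.Quotient.mk_surjective, ← RingHom.ker_eq_comap_bot,
      Ideal.mk_ker, sup_of_le_left hJQ]
  have hwt : fW w = u₀ := by
    rw [hy₀, Scheme.Hom.comp_apply]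
    refine Eq.trans ?_ hp₀
    congr 1
    refine PrimeSpectrum.ext ?_
    show (Spec.map (mk₂ ≫ ℓ) w).asIdeal.comap (algebraMap R' B) = p₀
    rw [hwQ, hQ]
  have hpf : LocallyOfFinitePresentation (a ≫ s) := by
    have : LocallyOfFinitePresentation a := MorphismProperty.of_isPullback sY.flip hqp
    infer_instance
  have hfW : LocallyOfFinitePresentation fW := inferInstance
  have hqf : fW.QuasiFiniteAt w := by
    rw [Scheme.Hom.quasiFiniteAt_iff_isOpen_singleton_asFiber]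
    have : Subsingleton (fW.fiber (fW w)) := by
      refine ⟨fun x y => (fW.fiberHomeo (fW w)).injective (Subtype.ext ?_)⟩
      have key : ∀ c : fW.fiber (fW w), (fW.fiberHomeo (fW w) c).1 = w := fun c => by
        have hc : fW (fW.fiberHomeo (fW w) c).1 = u₀ := ((fW.fiberHomeo (fW w) c).2 : _ = fW w).trans hwt
        have : IsClosedImmersion (Spec.map mk₂) := IsClosedImmersion.spec_of_surjective mk₂ Ideal.Quotient.mk_surjective
        have : IsPreimmersion (Spec.map (mk₂ ≫ ℓ)) := by rw [Spec.map_comp]; infer_instance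
        refine (Spec.map (mk₂ ≫ ℓ)).isEmbedding.injective ?_
        exact PrimeSpectrum.ext ((hover _ hc).trans hwQ.symm)
      rw [key x, key y]
    exact isOpen_discrete _
  let G : (Spec (CommRingCat.of Cq)).Opens := fW.quasiFiniteLocus
  refine ⟨Spec Aq, zι, Y, a, pullback.snd t zι, jW ''ᵁ G, jW w, hqp, sY, ⟨w, hqf, rfl⟩, ?_, ?_, ?_⟩
  · rw [← Scheme.Hom.comp_apply, ← Scheme.Hom.comp_apply]; exact hwt
  · rw [← jW.isoImage_inv_ι_assoc G]
    have : Flat (G.ι ≫ jW ≫ a ≫ s) := inferInstanceAs (Flat (G.ι ≫ fW))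
    infer_instance
  · rw [← jW.isoImage_inv_ι_assoc G]
    have : LocallyQuasiFinite (G.ι ≫ fW) := by
      rw [← Scheme.Hom.quasiFiniteLocus_eq_top_iff]
      exact TopologicalSpace.Opens.ext (Set.eq_univ_of_forall fun x =>
        Scheme.Hom.quasiFiniteAt_comp_iff_of_isOpenImmersion.2 x.2)
    exact inferInstanceAs (LocallyQuasiFinite ((jW.isoImage G).inv ≫ G.ι ≫ fW))

set_option maxHeartbeats 800000 in
/-- A slice through a point which is flat and quasi-finite everywhere. -/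
theorem exists_slice {C : Scheme.{u}} {π₁ π₂ c : C ⟶ R} (sqC : IsPullback π₁ π₂ t t)
    (sq₁ : IsPullback π₁ c s s) (sq₂ : IsPullback π₂ c s t) (u₀ : U)
    (hdisc : ∀ x y : R, x ⤳ y → s x = u₀ → s y = u₀ → t x = t y → x = y) :
    ∃ (W : Scheme.{u}) (g : W ⟶ U) (Y : Scheme.{u}) (a : Y ⟶ R) (b : Y ⟶ W),
      IsPullback a b t g ∧ LocallyOfFinitePresentation g ∧ Flat (a ≫ s) ∧ LocallyQuasiFinite (a ≫ s) ∧
      LocallyOfFinitePresentation (a ≫ s) ∧ u₀ ∈ Set.range (a ≫ s) := by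
  obtain ⟨Z, q, Y, a, b, O, y, hq, sY, hyO, hy, hOf, hOq⟩ := exists_good_open s t u₀ hdisc
  have : Smooth b := MorphismProperty.of_isPullback sY ‹Smooth t›
  have : LocallyOfFinitePresentation a := MorphismProperty.of_isPullback sY.flip hq
  let W₀ : Z.Opens := ⟨b '' O, b.isOpenMap _ O.2⟩
  let K : Y.Opens := b ⁻¹ᵁ W₀
  have hOK : y ∈ K := ⟨y, hyO, rfl⟩
  refine ⟨W₀, W₀.ι ≫ q, K, K.ι ≫ a, b ∣_ W₀, ?_, inferInstance, ?_⟩
  · exact ((isPullback_morphismRestrict b W₀).paste_vert sY.flip).flip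
  -- the pairs of points of the slice
  let Q := pullback b b
  let a₁ : Q ⟶ Y := pullback.fst b b
  let a₂ : Q ⟶ Y := pullback.snd b b
  have hm : (a₁ ≫ a) ≫ t = (a₂ ≫ a) ≫ t := by
    rw [Category.assoc, Category.assoc, sY.w, reassoc_of% (pullback.condition (f := b) (g := b))]
  let m : Q ⟶ C := sqC.lift (a₁ ≫ a) (a₂ ≫ a) hm
  have hm1 : m ≫ π₁ = a₁ ≫ a := sqC.lift_fst _ _ _
  have hm2 : m ≫ π₂ = a₂ ≫ a := sqC.lift_snd _ _ _
  have hout : IsPullback a₁ (a₂ ≫ a) (a ≫ t) t := by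
    rw [sY.w]
    exact (IsPullback.of_hasPullback b b).paste_vert sY.flip
  have hm₁ : IsPullback a₁ m a π₁ :=
    IsPullback.of_bot (by rw [hm2]; exact hout) hm1.symm sqC
  have hout' : IsPullback a₂ (a₁ ≫ a) (a ≫ t) t := by
    rw [sY.w]
    exact (IsPullback.of_hasPullback b b).flip.paste_vert sY.flip
  have hm₂ : IsPullback a₂ m a π₂ :=
    IsPullback.of_bot (by rw [hm1]; exact hout') hm2.symm sqC.flip
  have S₁ : IsPullback a₁ (m ≫ c) (a ≫ s) s := hm₁.paste_vert sq₁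
  have S₂ : IsPullback a₂ (m ≫ c) (a ≫ s) t := hm₂.paste_vert sq₂
  have : Smooth a₂ := MorphismProperty.of_isPullback S₂.flip ‹Smooth t›
  let Ω : Q.Opens := a₁ ⁻¹ᵁ O
  have SΩ : IsPullback (a₁ ∣_ O) (Ω.ι ≫ m ≫ c) (O.ι ≫ a ≫ s) s :=
    (isPullback_morphismRestrict a₁ O).paste_vert S₁
  have hΩf : Flat (Ω.ι ≫ m ≫ c) := MorphismProperty.of_isPullback (P := @Flat) SΩ hOf
  have hΩq : LocallyQuasiFinite (Ω.ι ≫ m ≫ c) :=
    MorphismProperty.of_isPullback (P := @LocallyQuasiFinite) SΩ hOq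
  have hmem : ∀ z : Ω, (Ω.ι ≫ a₂) z ∈ K := fun z => by
    refine ⟨a₁ (Ω.ι z), z.2, ?_⟩
    rw [← Scheme.Hom.comp_apply, show a₁ ≫ b = a₂ ≫ b from pullback.condition]
    rfl
  let π : (Ω : Scheme) ⟶ K := IsOpenImmersion.lift K.ι (Ω.ι ≫ a₂) (by
    rintro _ ⟨z, rfl⟩
    rw [Scheme.Opens.range_ι]
    exact hmem z)
  have hπ : π ≫ K.ι = Ω.ι ≫ a₂ := IsOpenImmersion.lift_fac _ _ _
  have hπs : Surjective π := by
    refine ⟨fun k => ?_⟩
    obtain ⟨o, ho, e⟩ := k.2
    obtain ⟨z, hz1, hz2⟩ := Scheme.Pullback.exists_preimage_pullback (f := b) (g := b) o (K.ι k) e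
    refine ⟨⟨z, show a₁ z ∈ O by rw [hz1]; exact ho⟩, K.ι.isOpenEmbedding.injective ?_⟩
    rw [← Scheme.Hom.comp_apply, hπ]
    exact hz2
  have : Flat π := by
    have : Flat (π ≫ K.ι) := hπ ▸ inferInstance
    exact MorphismProperty.of_postcomp (W := @Flat) (W' := @IsOpenImmersion) π K.ι inferInstance this
  have hfl : Flat (π ≫ K.ι ≫ a ≫ s) := by
    rw [← Category.assoc, hπ, Category.assoc, S₂.w, ← Category.assoc Ω.ι]
    infer_instance
  refine ⟨?_, ?_, inferInstance, ⟨⟨y, hOK⟩, hy⟩⟩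
  · rw [Category.assoc]
    exact GrpdLib.flat_of_comp_flat_surjective π (K.ι ≫ a ≫ s)
  · rw [Category.assoc, ← Scheme.Hom.quasiFiniteLocus_eq_top_iff]
    refine TopologicalSpace.Opens.ext (Set.eq_univ_of_forall fun k => ?_)
    obtain ⟨z, rfl⟩ := π.surjective k
    show (K.ι ≫ a ≫ s).QuasiFiniteAt (π z)
    rw [Scheme.Hom.quasiFiniteAt_comp_iff_of_isOpenImmersion]
    have hz : (m ≫ c).QuasiFiniteAt (Ω.ι z) :=
      Scheme.Hom.quasiFiniteAt_comp_iff_of_isOpenImmersion.1 ((Ω.ι ≫ m ≫ c).quasiFiniteAt z)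
    have := (EtStruct.quasiFiniteAt_baseChange_iff (a ≫ s) S₂ (Ω.ι z)).1 hz
    rwa [← Scheme.Hom.comp_apply, ← hπ, Scheme.Hom.comp_apply] at this

end Groth.Agent.StFib.LqfSlice
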