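import Groth.Agent.StFib.SliceDMAtlas
import Groth.Agent.StFib.DiagConv
import Groth.Agent.StFib.EndTrans
import Groth.Agent.StFib.Props2
import Groth.Agent.AlgSpB.LqfSep
import Groth.Agent.IsoCls.ChartPairs

/-!
# The scheme of pairs of an atlas of a stack with separated locally quasi-finite diagonal
-/

set_option autoImplicit false
set_option linter.unusedVariables false
set_option backward.isDefEq.respectTransparency false
set_option backward.isDefEq.respectTransparency.types false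

universe u

open CategoryTheory CategoryTheory.Limits AlgebraicGeometry Opposite FibCat
open Groth.Agent.IsoCls

namespace Groth.Agent.StFib.LqfSlice

variable {S : Scheme.{u}} {𝒳 : AlgSt.Cat S} {U : Over S}

/-- A scheme representing pairs of points of a chart with an isomorphism between their values. -/
structure Pairs (x : overCat U ⥤ᵇ 𝒳) where
  R : Over S
  s : R ⟶ U
  t : R ⟶ U
  β : VHom x x s t
  univ : ∀ {T : Over S} {h g : T ⟶ U} (b : VHom x x h g), ∃! r : T ⟶ R, IsRes r b β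

variable {x : overCat U ⥤ᵇ 𝒳}

theorem isRes_iff {R : Over S} {s₀ t₀ : R ⟶ U}
    (ι : BasedFunctor.comp (AlgSt.overMap s₀) x ≅ BasedFunctor.comp (AlgSt.overMap t₀) x)
    {T : Over S} (r : T ⟶ R) {h g : T ⟶ U} (b : VHom x x h g)
    (β₀ : VHom x x (𝟙 R ≫ s₀) (𝟙 R ≫ t₀)) (hβ₀ : β₀.1 = (isoApp ι (Over.mk (𝟙 R))).hom)
    (a : (AlgSt.overMap s₀).obj (Over.mk r) ⟶ Over.mk h) (ha : a.left = 𝟙 T)
    (a' : (AlgSt.overMap t₀).obj (Over.mk r) ⟶ Over.mk g) (ha' : a'.left = 𝟙 T) (h𝒳 : IsFibGrpd 𝒳.p) :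
    IsRes r b β₀ ↔ x.map a ≫ b.1 = (isoApp ι (Over.mk r)).hom ≫ x.map a' := by
  let m : (Over.mk r : (overCat R).obj) ⟶ Over.mk (𝟙 R) := Over.homMk r (Category.comp_id r)
  have n := isoApp_naturality ι m
  change x.map ((AlgSt.overMap s₀).map m) ≫ _ = _ ≫ x.map ((AlgSt.overMap t₀).map m) at n
  have hml : ((AlgSt.overMap s₀).map m).left = r := rfl
  have hml' : ((AlgSt.overMap t₀).map m).left = r := rfl
  constructor
  · rintro ⟨p, q, hp, hq, e⟩
    have e1 : a ≫ p = (AlgSt.overMap s₀).map m := Over.OverMorphism.ext (by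
      rw [Over.comp_left, ha, hp, hml]; exact Category.id_comp r)
    have e2 : a' ≫ q = (AlgSt.overMap t₀).map m := Over.OverMorphism.ext (by
      rw [Over.comp_left, ha', hq, hml']; exact Category.id_comp r)
    refine grpd_cancel h𝒳 (x.map q) ?_ ?_
    · rw [Category.assoc, e, Category.assoc]
      erw [← Functor.map_comp_assoc, e1, ← Functor.map_comp, e2]
      rw [hβ₀]
      exact n
    · obtain ⟨_, hb⟩ := b.2
      obtain ⟨_, hi⟩ := vert_isoApp ι (Over.mk r)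
      simp only [Functor.map_comp, hb, w_map x a, w_map x a']
      erw [hi]
      rw [show (overCat U).p.map a = 𝟙 T from ha, show (overCat U).p.map a' = 𝟙 T from ha']
      simp
  · intro e
    have hh : r ≫ 𝟙 R ≫ s₀ = h := by
      have := Over.w a
      rw [ha] at this
      rw [Category.id_comp]
      exact this.symm.trans (Category.id_comp h)
    have hg : r ≫ 𝟙 R ≫ t₀ = g := by
      have := Over.w a'
      rw [ha'] at this
      rw [Category.id_comp]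
      exact this.symm.trans (Category.id_comp g)
    let p : Over.mk h ⟶ Over.mk (𝟙 R ≫ s₀) := Over.homMk r hh
    let q : Over.mk g ⟶ Over.mk (𝟙 R ≫ t₀) := Over.homMk r hg
    refine ⟨p, q, rfl, rfl, ?_⟩
    have e1 : a ≫ p = (AlgSt.overMap s₀).map m := Over.OverMorphism.ext (by
      rw [Over.comp_left, ha]; exact Category.id_comp r)
    have e2 : a' ≫ q = (AlgSt.overMap t₀).map m := Over.OverMorphism.ext (by
      rw [Over.comp_left, ha']; exact Category.id_comp r)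
    have : IsIso a := by
      have ew : r ≫ s₀ = h := by rwa [Category.id_comp] at hh
      exact ⟨Over.homMk (𝟙 T) (show 𝟙 T ≫ r ≫ s₀ = h by rw [Category.id_comp, ew]),
        Over.OverMorphism.ext (show a.left ≫ 𝟙 T = 𝟙 T by rw [ha]; exact Category.comp_id _),
        Over.OverMorphism.ext (show 𝟙 T ≫ a.left = 𝟙 T by rw [ha]; exact Category.id_comp _)⟩
    rw [← cancel_epi (x.map a), reassoc_of% e]
    erw [← Functor.map_comp, e2, ← Functor.map_comp_assoc, e1]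
    rw [hβ₀]
    exact n.symm

/-- The pairs of a chart presented by a scheme. -/
theorem exists_univ (h𝒳 : IsFibGrpd 𝒳.p) {R : Over S} (E : overCat R ⥤ᵇ fp x x) (hE : IsEquivOver E)
    {s₀ t₀ : R ⟶ U} (is : BasedFunctor.comp E (fpFst x x) ≅ AlgSt.overMap s₀)
    (it : BasedFunctor.comp E (fpSnd x x) ≅ AlgSt.overMap t₀) :
    ∃ β₀ : VHom x x (𝟙 R ≫ s₀) (𝟙 R ≫ t₀), ∀ {T : Over S} {h g : T ⟶ U} (b : VHom x x h g),
      ∃! r : T ⟶ R, IsRes r b β₀ := by
  obtain ⟨ι, hι⟩ : ∃ ι : BasedFunctor.comp (AlgSt.overMap s₀) x ≅ BasedFunctor.comp (AlgSt.overMap t₀) x,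
      ∀ φ, x.map (isoApp is φ).hom ≫ (isoApp ι φ).hom = (E.obj φ).obj.iso.hom ≫ x.map (isoApp it φ).hom := by
    refine ⟨isoWhiskerRight is.symm x ≪≫ isoWhiskerLeft E (fpIso x x) ≪≫ isoWhiskerRight it x, fun φ => ?_⟩
    change x.map (isoApp is φ).hom ≫ x.map (isoApp is φ).inv ≫ (E.obj φ).obj.iso.hom ≫ x.map (isoApp it φ).hom = _
    rw [← Category.assoc, ← x.toFunctor.map_comp, Iso.hom_inv_id, x.toFunctor.map_id]
    exact Category.id_comp _
  let β₀ : VHom x x (𝟙 R ≫ s₀) (𝟙 R ≫ t₀) := ⟨(isoApp ι (Over.mk (𝟙 R))).hom, vert_isoApp ι _⟩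
  let T' (φ : (overCat R).obj) : (fp x x).obj :=
    fpMk ((AlgSt.overMap s₀).obj φ) ((AlgSt.overMap t₀).obj φ) (isoApp ι φ) (vert_isoApp ι φ)
  have hT : ∀ φ, ∃ k : E.obj φ ≅ T' φ, Vert k.hom := fun φ =>
    ⟨fpIsoMk (isoApp is φ) (isoApp it φ) (hι φ), vert_fp_iff.2 (vert_isoApp is φ)⟩
  refine ⟨β₀, fun {T h g} b => ?_⟩
  have hbi := b.2.isIso h𝒳
  let o : (fp x x).obj := fpMk (F := x) (G := x) (Over.mk h) (Over.mk g) (asIso b.1) b.2
  obtain ⟨ψ, ζ, hζ⟩ := exists_vert_iso_of_isEquivOver hE o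
  have hT0 : ψ.left = T := (E.w_obj ψ).symm.trans hζ.base_eq
  obtain ⟨k, hk⟩ := hT ψ
  let K : T' ψ ⟶ o := k.inv ≫ ζ.hom
  have hK : Vert K := hk.inv.comp hζ
  have key : ∀ r₁ : T ⟶ R, ∀ (K₁ : T' (Over.mk r₁) ⟶ o), Vert K₁ → IsRes r₁ b β₀ := by
    intro r₁ K₁ hK₁
    obtain ⟨_, h1⟩ := vert_fp_iff.1 hK₁
    obtain ⟨_, h2⟩ := vert_fp_snd hK₁
    exact (isRes_iff ι r₁ b β₀ rfl K₁.hom.fst h1 K₁.hom.snd h2 h𝒳).2 K₁.hom.w
  obtain ⟨r, hr⟩ : ∃ r : T ⟶ R, IsRes r b β₀ := by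
    subst hT0
    exact ⟨ψ.hom, key ψ.hom K hK⟩
  refine ⟨r, hr, fun r' hr' => ?_⟩
  -- morphisms to the given object
  have mor : ∀ r₁ : T ⟶ R, IsRes r₁ b β₀ → ∃ K₁ : T' (Over.mk r₁) ≅ o, Vert K₁.hom := by
    intro r₁ h₁
    have hh : r₁ ≫ s₀ = h := by have := h₁.left_eq; rwa [Category.id_comp] at this
    have hg : r₁ ≫ t₀ = g := by have := h₁.right_eq; rwa [Category.id_comp] at this
    let a : (AlgSt.overMap s₀).obj (Over.mk r₁) ≅ Over.mk h := Over.isoMk (Iso.refl _) (by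
      change 𝟙 T ≫ h = r₁ ≫ s₀; rw [Category.id_comp, hh])
    let a' : (AlgSt.overMap t₀).obj (Over.mk r₁) ≅ Over.mk g := Over.isoMk (Iso.refl _) (by
      change 𝟙 T ≫ g = r₁ ≫ t₀; rw [Category.id_comp, hg])
    refine ⟨fpIsoMk (F := x) (G := x) a a' ((isRes_iff ι r₁ b β₀ rfl a.hom rfl a'.hom rfl h𝒳).1 h₁),
      vert_fp_iff.2 ⟨rfl, rfl⟩⟩
  obtain ⟨K₁, hK₁⟩ := mor r' hr'
  obtain ⟨K₂, hK₂⟩ := mor r hr
  obtain ⟨k₁, hk₁⟩ := hT (Over.mk r')
  obtain ⟨k₂, hk₂⟩ := hT (Over.mk r)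
  have := full_of_isEquivOver hE
  let Z := k₁.hom ≫ K₁.hom ≫ K₂.inv ≫ k₂.inv
  have hZ : Vert Z := hk₁.comp (hK₁.comp (hK₂.inv.comp hk₂.inv))
  obtain ⟨q, hq⟩ := E.toFunctor.map_surjective Z
  exact SliceDM.eq_of_vert_over (Vert.of_map E (hq.symm ▸ hZ) : Vert (𝒳 := overCat R) q)

/-- An atlas of a stack with separated, quasi-compact, locally quasi-finite diagonal has a scheme of pairs. -/
theorem exists_pairs (h𝒳 : AlgSt.IsAlgStack Scheme.fppfPrecoverage 𝒳)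
    (hsep : AlgSt.RepByAlgSpWith AlgSp.IsSeparatedMor (diag (toSelf 𝒳))) (hqf : AlgSt.IsQuasiDMOver 𝒳)
    (x : overCat U ⥤ᵇ 𝒳) (hx : AlgSt.RepByAlgSpWith (AlgSp.LocP @Smooth) x)
    (hxs : AlgSt.RepByAlgSpWith AlgSp.IsSurjectiveMor x) :
    ∃ (D : Pairs x) (P : Over S) (p₁ p₂ : P ⟶ U) (d : D.R ⟶ P), d ≫ p₁ = D.s ∧ d ≫ p₂ = D.t ∧
      IsPullback p₁.left p₂.left U.hom U.hom ∧ LocallyQuasiFinite d.left ∧ LocallyOfFiniteType d.left ∧
      Smooth D.s.left ∧ Surjective D.s.left ∧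
      ∃ E : overCat D.R ⥤ᵇ fp x x, IsEquivOver E ∧
        Nonempty (BasedFunctor.comp E (fpFst x x) ≅ AlgSt.overMap D.s) ∧
        Nonempty (BasedFunctor.comp E (fpSnd x x) ≅ AlgSt.overMap D.t) := by
  have h𝒳g : IsFibGrpd 𝒳.p := h𝒳.isStack.1
  obtain ⟨A, e, he, -⟩ := hx U x
  -- to the product over the base
  let O : Over S := Over.mk (𝟙 S)
  let h : U ⟶ O := Over.homMk U.hom (Category.comp_id _)
  obtain ⟨N, hN, ⟨n₁⟩, ⟨n₂⟩⟩ := exists_equiv_pullback h h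
  have hu : ∀ {T : Over S} (a b : T ⟶ O), a = b := fun a b =>
    Over.OverMorphism.ext (((Category.comp_id _).symm.trans (Over.w a)).trans
      ((Over.w b).symm.trans (Category.comp_id _)))
  have : (toSelf (overCat O)).toFunctor.Faithful := ⟨fun h => Over.OverMorphism.ext h⟩
  have : (toSelf (overCat O)).toFunctor.Full := ⟨fun {a b} g => ⟨Over.homMk g (hu _ _), rfl⟩⟩
  let q : 𝒳 ⥤ᵇ selfOver (C := Over S) := toSelf 𝒳
  let xt := BasedFunctor.comp x q
  obtain ⟨i⟩ := exists_iso_toSelf (BasedFunctor.comp (AlgSt.overMap h) (toSelf (overCat O)))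
  obtain ⟨j⟩ := exists_iso_toSelf xt
  let M := fpMap (F := xt) (G := xt) (F' := AlgSt.overMap h) (G' := AlgSt.overMap h) (BasedFunctor.id _)
    (BasedFunctor.id _) (toSelf (overCat O)) (j ≪≫ i.symm) (j ≪≫ i.symm)
  have hNE : IsEquivOver (BasedFunctor.comp N M) :=
    isEquivOver_comp hN (fpMap_isEquivOver _ _ _ _ _ (isEquivOver_id _) (isEquivOver_id _))
  obtain ⟨d', hd', -, ⟨jd⟩⟩ := isEquivOver_symm hNE
  let u : fp x x ⥤ᵇ fp xt xt := fpLift (fpFst x x) (fpSnd x x) (isoWhiskerRight (fpIso x x) q)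
  have hu' : ∀ {Q : MorphismProperty (AlgSp.Sp S)}, AlgSt.RepByAlgSpWith Q (diag q) →
      AlgSt.RepByAlgSpWith Q u := fun hQ => by
    have hcart := comp_cart x x q (isoWhiskerRight (fpIso x x) q) fun _ => rfl
    exact (repByAlgSpWith_iff_of_equiv _ _ (BasedFunctor.id _) hcart (isEquivOver_id _)
      (f := fpFst (compPhi x x q) (diag q)) (f' := u) (Iso.refl _)).1 (repByAlgSpWith_fpFst _ _ hQ)
  let Ψ := BasedFunctor.comp (BasedFunctor.comp e u) d'
  obtain ⟨jΨ⟩ := exists_iso_ofSpMap_toOverCat Ψ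
  have hΨ : ∀ {Q : MorphismProperty (AlgSp.Sp S)}, StableBC Q → DetectedOnSchemes Q →
      AlgSt.RepByAlgSpWith Q (diag q) → Q (AlgSt.spMapOfOver Ψ) := fun {Q} hb hdt hQ => by
    refine mem_of_repByAlgSpWith_ofSpMap hb hdt A.property (isAlgSpace_yon _) _ ?_
    refine (repByAlgSpWith_iff_of_equiv _ (BasedFunctor.id _) (AlgSt.toOverCat (pullback h h))
      (isEquivOver_id _) (toOverCat_isEquivOver _) (f := Ψ) (f' := AlgSt.ofSpMap (AlgSt.spMapOfOver Ψ))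
      jΨ).1 ?_
    exact SliceDM.repByAlgSpWith_comp_equiv' (repByAlgSpWith_comp_isEquivOver (hu' hQ) he) hd'
  let a := AlgSt.spMapOfOver Ψ
  have halqf : AlgSp.LocP (@LocallyQuasiFinite ⊓ @LocallyOfFiniteType) a :=
    hΨ (good_locP Groth.Agent.AlgSpCov.standard_locallyQuasiFinite).bc
      (good_locP Groth.Agent.AlgSpCov.standard_locallyQuasiFinite).det hqf
  have hasep : AlgSp.IsSeparatedMor a := hΨ good_separated.bc good_separated.det hsep
  obtain ⟨R, ⟨φ⟩⟩ := Groth.Agent.AlgSpB.exists_iso_of_lqf_sep A.property a halqf hasep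
  obtain ⟨e₀, he₀, -, -⟩ := isEquivOver_symm (toOverCat_isEquivOver R)
  let E : overCat R ⥤ᵇ fp x x := BasedFunctor.comp (BasedFunctor.comp e₀ (AlgSt.ofSpMap φ.hom)) e
  have hE : IsEquivOver E :=
    isEquivOver_comp (isEquivOver_comp he₀ (isEquivOver_ofSpMap_iso φ)) he
  obtain ⟨s₀, ⟨is⟩⟩ := exists_iso_overMap (BasedFunctor.comp E (fpFst x x))
  obtain ⟨t₀, ⟨it⟩⟩ := exists_iso_overMap (BasedFunctor.comp E (fpSnd x x))
  obtain ⟨β₀, hβ₀⟩ := exists_univ h𝒳g E hE is it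
  obtain ⟨d, ⟨id'⟩⟩ := exists_iso_overMap (BasedFunctor.comp (BasedFunctor.comp E u) d')
  have key : BasedFunctor.comp (AlgSt.overMap d) (BasedFunctor.comp N M) ≅ BasedFunctor.comp E u :=
    isoWhiskerRight id'.symm (BasedFunctor.comp N M) ≪≫ isoWhiskerLeft (BasedFunctor.comp E u) jd
  have hd : (@LocallyQuasiFinite ⊓ @LocallyOfFiniteType : MorphismProperty Scheme.{u}) d.left :=
    mem_scheme_of_overMap Groth.Agent.AlgSpCov.standard_locallyQuasiFinite (repByAlgSpWith_of_iso _ id'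
      (SliceDM.repByAlgSpWith_comp_equiv' (repByAlgSpWith_comp_isEquivOver (hu' hqf) hE) hd'))
  have hd1 : d ≫ pullback.fst h h = s₀ :=
    overMap_injective (overMapCompIso d (pullback.fst h h) ≪≫
      isoWhiskerLeft (AlgSt.overMap d) n₁.symm ≪≫ isoWhiskerRight key (fpFst xt xt) ≪≫ is)
  have hd2 : d ≫ pullback.snd h h = t₀ :=
    overMap_injective (overMapCompIso d (pullback.snd h h) ≪≫
      isoWhiskerLeft (AlgSt.overMap d) n₂.symm ≪≫ isoWhiskerRight key (fpSnd xt xt) ≪≫ it)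
  refine ⟨⟨R, 𝟙 R ≫ s₀, 𝟙 R ≫ t₀, β₀, fun b => hβ₀ b⟩, pullback h h, pullback.fst h h, pullback.snd h h, d,
    hd1.trans (Category.id_comp _).symm, hd2.trans (Category.id_comp _).symm, ?_, hd.1, hd.2, ?_, ?_, E, hE, ?_, ?_⟩
  · exact Groth.Agent.AlgSpB.isPullback_map_left (IsPullback.of_hasPullback h h)
  · show Smooth (𝟙 R ≫ s₀).left
    rw [Category.id_comp]
    exact mem_scheme_of_overMap Groth.Agent.AlgSpCov.standard_smooth (repByAlgSpWith_of_iso _ is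
      (repByAlgSpWith_comp_isEquivOver (repByAlgSpWith_fpFst _ _ hx) hE))
  · show Surjective (𝟙 R ≫ s₀).left
    rw [Category.id_comp]
    exact surjective_of_overMap (repByAlgSpWith_of_iso _ is
      (repByAlgSpWith_comp_isEquivOver (repByAlgSpWith_fpFst _ _ hxs) hE))
  · exact ⟨is ≪≫ eqToIso (congrArg AlgSt.overMap (Category.id_comp s₀).symm)⟩
  · exact ⟨it ≪≫ eqToIso (congrArg AlgSt.overMap (Category.id_comp t₀).symm)⟩

end Groth.Agent.StFib.LqfSlice
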