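import Groth.Agent.StFib.LqfSlice.Pairs

/-!
# Composition of pairs of a chart
-/

set_option autoImplicit false
set_option linter.unusedVariables false
set_option backward.isDefEq.respectTransparency false
set_option backward.isDefEq.respectTransparency.types false

universe u

open CategoryTheory CategoryTheory.Limits AlgebraicGeometry Opposite FibCat
open Groth.Agent.IsoCls

namespace Groth.Agent.StFib.LqfSlice

variable {S : Scheme.{u}} {𝒳 : AlgSt.Cat S} {U : Over S} {x : overCat U ⥤ᵇ 𝒳}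

theorem isRes_refl {T : Over S} {h g : T ⟶ U} (b : VHom x x h g) : IsRes (𝟙 T) b b :=
  ⟨𝟙 _, 𝟙 _, rfl, rfl, by rw [CategoryTheory.Functor.map_id, CategoryTheory.Functor.map_id,
    Category.id_comp, Category.comp_id]⟩

theorem VHom.inv_inv (h𝒳 : IsFibGrpd 𝒳.p) {T : Over S} {h g : T ⟶ U} (b : VHom x x h g) :
    (b.inv h𝒳).inv h𝒳 = b := by
  refine Subtype.ext ?_
  have := b.2.isIso h𝒳
  change CategoryTheory.inv (CategoryTheory.inv b.1) = b.1
  simp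

namespace Pairs

variable (h𝒳 : IsFibGrpd 𝒳.p) (D : Pairs x)

/-- The composition of vertical morphisms. -/
def vcomp {T : Over S} {h g k : T ⟶ U} (b : VHom x x h g) (b' : VHom x x g k) : VHom x x h k :=
  ⟨b.1 ≫ b'.1, b.2.comp b'.2⟩

include h𝒳 in
theorem exists_swap : ∃ σ : D.R ⟶ D.R, σ ≫ D.s = D.t ∧ σ ≫ D.t = D.s ∧ σ ≫ σ = 𝟙 D.R := by
  obtain ⟨σ, hσ, -⟩ := D.univ (D.β.inv h𝒳)
  refine ⟨σ, hσ.left_eq, hσ.right_eq, ?_⟩
  obtain ⟨r, -, huniq⟩ := D.univ D.β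
  have h1 := hσ.inv h𝒳
  rw [VHom.inv_inv] at h1
  rw [huniq _ (h1.trans hσ), huniq _ (isRes_refl D.β)]

include h𝒳 in
/-- The division of pairs, with its two cartesian squares. -/
theorem exists_div :
    ∃ c : pullback D.t D.t ⟶ D.R,
      IsPullback (pullback.fst D.t D.t) c D.s D.s ∧ IsPullback (pullback.snd D.t D.t) c D.s D.t := by
  let C := pullback D.t D.t
  let π₁ : C ⟶ D.R := pullback.fst D.t D.t
  let π₂ : C ⟶ D.R := pullback.snd D.t D.t
  obtain ⟨b₁, hb₁⟩ := exists_isRes (h' := π₁ ≫ D.s) (g' := π₁ ≫ D.t) h𝒳 π₁ rfl rfl D.β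
  obtain ⟨b₂, hb₂⟩ := exists_isRes (h' := π₂ ≫ D.s) (g' := π₁ ≫ D.t) h𝒳 π₂ rfl pullback.condition.symm D.β
  obtain ⟨c, hc, -⟩ := D.univ (vcomp b₁ (b₂.inv h𝒳))
  have cs : c ≫ D.s = π₁ ≫ D.s := hc.left_eq
  have ct : c ≫ D.t = π₂ ≫ D.s := hc.right_eq
  -- the value of the composite
  have key : ∀ {T : Over S} (l : T ⟶ C) {h g k : T ⟶ U} (a₁ : VHom x x h k) (a : VHom x x h g)
      (a₂ : VHom x x g k), IsRes (l ≫ π₁) a₁ D.β → IsRes (l ≫ c) a D.β → IsRes (l ≫ π₂) a₂ D.β →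
      a.1 ≫ a₂.1 = a₁.1 := by
    intro T l h g k a₁ a a₂ r₁ r r₂
    have eh : l ≫ π₁ ≫ D.s = h := (Category.assoc _ _ _).symm.trans r₁.left_eq
    have ek : l ≫ π₁ ≫ D.t = k := (Category.assoc _ _ _).symm.trans r₁.right_eq
    have eg : l ≫ π₂ ≫ D.s = g := (Category.assoc _ _ _).symm.trans r₂.left_eq
    obtain ⟨c₁, hc₁⟩ := exists_isRes h𝒳 l eh ek b₁
    obtain ⟨c₂, hc₂⟩ := exists_isRes h𝒳 l eg ek b₂
    obtain rfl : c₁ = a₁ := (hc₁.trans hb₁).unique h𝒳 r₁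
    obtain rfl : c₂ = a₂ := (hc₂.trans hb₂).unique h𝒳 r₂
    have := congrArg (fun b => b.1) (((hc₁.comp (hc₂.inv h𝒳)).trans hc).unique h𝒳 r)
    change c₁.1 ≫ (c₂.inv h𝒳).1 = a.1 at this
    rw [← this, Category.assoc, VHom.inv_comp, Category.comp_id]
  have val : ∀ {T : Over S} (r : T ⟶ D.R) {h g : T ⟶ U}, r ≫ D.s = h → r ≫ D.t = g →
      ∃ a : VHom x x h g, IsRes r a D.β := fun r _ _ e e' => exists_isRes h𝒳 r e e' D.β
  refine ⟨c, ?_, ?_⟩
  · -- first square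
    have ex : ∀ {T : Over S} (r₁ r : T ⟶ D.R), r₁ ≫ D.s = r ≫ D.s →
        ∃! l : T ⟶ C, l ≫ π₁ = r₁ ∧ l ≫ c = r := by
      intro T r₁ r e
      obtain ⟨a₁, ha₁⟩ := val r₁ (h := r₁ ≫ D.s) (g := r₁ ≫ D.t) rfl rfl
      obtain ⟨a, ha⟩ := val r (h := r₁ ≫ D.s) (g := r ≫ D.t) e.symm rfl
      obtain ⟨r₂, hr₂, hu⟩ := D.univ (vcomp (a.inv h𝒳) a₁)
      let l : T ⟶ C := pullback.lift r₁ r₂ hr₂.right_eq.symm
      have hl1 : l ≫ π₁ = r₁ := pullback.lift_fst _ _ _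
      have hl2 : l ≫ π₂ = r₂ := pullback.lift_snd _ _ _
      have hls : l ≫ π₂ ≫ D.s = r ≫ D.t := by rw [← Category.assoc, hl2]; exact hr₂.left_eq
      obtain ⟨a', ha'⟩ := val (l ≫ c) (h := r₁ ≫ D.s) (g := r ≫ D.t)
        (by rw [Category.assoc, cs, ← Category.assoc, hl1]) (by rw [Category.assoc, ct, hls])
      refine ⟨l, ⟨hl1, ?_⟩, fun l' ⟨h1, h2⟩ => ?_⟩
      · have hk := key l a₁ a' (vcomp (a.inv h𝒳) a₁) (by rwa [hl1]) ha' (by rwa [hl2])
        change a'.1 ≫ (a.inv h𝒳).1 ≫ a₁.1 = a₁.1 at hk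
        have e' : a' = a := Subtype.ext (by
          have := a₁.2.isIso h𝒳
          rw [← Category.assoc] at hk
          have e1 : a'.1 ≫ (a.inv h𝒳).1 = 𝟙 _ := (cancel_mono a₁.1).1 (hk.trans (Category.id_comp _).symm)
          calc a'.1 = (a'.1 ≫ (a.inv h𝒳).1) ≫ a.1 := by rw [Category.assoc, VHom.inv_comp, Category.comp_id]
            _ = a.1 := by rw [e1, Category.id_comp])
        obtain ⟨_, _, hua⟩ := D.univ a
        exact (hua (l ≫ c) (e' ▸ ha')).trans (hua r ha).symm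
      · obtain ⟨a₂, ha₂⟩ := val (l' ≫ π₂) (h := r ≫ D.t) (g := r₁ ≫ D.t)
          (by rw [Category.assoc, ← ct, ← Category.assoc, h2])
          (by rw [Category.assoc, show π₂ ≫ D.t = π₁ ≫ D.t from pullback.condition.symm, ← Category.assoc, h1])
        have := key l' a₁ a a₂ (by rwa [h1]) (by rwa [h2]) ha₂
        have e2 : a₂ = vcomp (a.inv h𝒳) a₁ := Subtype.ext (by
          change a₂.1 = (a.inv h𝒳).1 ≫ a₁.1
          rw [← this, ← Category.assoc, VHom.inv_comp, Category.id_comp])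
        refine pullback.hom_ext (h1.trans hl1.symm) ?_
        exact (hu _ (e2 ▸ ha₂)).trans hl2.symm
    exact ⟨⟨cs.symm⟩, ⟨PullbackCone.IsLimit.mk _ (fun q => (ex q.fst q.snd q.condition).choose)
      (fun q => (ex q.fst q.snd q.condition).choose_spec.1.1)
      (fun q => (ex q.fst q.snd q.condition).choose_spec.1.2)
      (fun q m h1 h2 => (ex q.fst q.snd q.condition).choose_spec.2 m ⟨h1, h2⟩)⟩⟩
  · -- second square
    have ex : ∀ {T : Over S} (r₂ r : T ⟶ D.R), r₂ ≫ D.s = r ≫ D.t →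
        ∃! l : T ⟶ C, l ≫ π₂ = r₂ ∧ l ≫ c = r := by
      intro T r₂ r e
      obtain ⟨a₂, ha₂⟩ := val r₂ (h := r ≫ D.t) (g := r₂ ≫ D.t) e rfl
      obtain ⟨a, ha⟩ := val r (h := r ≫ D.s) (g := r ≫ D.t) rfl rfl
      obtain ⟨r₁, hr₁, hu⟩ := D.univ (vcomp a a₂)
      let l : T ⟶ C := pullback.lift r₁ r₂ hr₁.right_eq
      have hl1 : l ≫ π₁ = r₁ := pullback.lift_fst _ _ _
      have hl2 : l ≫ π₂ = r₂ := pullback.lift_snd _ _ _
      obtain ⟨a', ha'⟩ := val (l ≫ c) (h := r ≫ D.s) (g := r ≫ D.t)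
        (by rw [Category.assoc, cs, ← Category.assoc, hl1]; exact hr₁.left_eq)
        (by rw [Category.assoc, ct, ← Category.assoc, hl2]; exact e)
      refine ⟨l, ⟨hl2, ?_⟩, fun l' ⟨h1, h2⟩ => ?_⟩
      · have := key l (vcomp a a₂) a' a₂ (by rwa [hl1]) ha' (by rwa [hl2])
        have := a₂.2.isIso h𝒳
        have e' : a' = a := Subtype.ext ((cancel_mono a₂.1).1 ‹a'.1 ≫ a₂.1 = (vcomp a a₂).1›)
        obtain ⟨_, _, hua⟩ := D.univ a
        exact (hua (l ≫ c) (e' ▸ ha')).trans (hua r ha).symm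
      · have hc' : π₁ ≫ D.t = π₂ ≫ D.t := pullback.condition
        obtain ⟨a₁, ha₁⟩ := val (l' ≫ π₁) (h := r ≫ D.s) (g := r₂ ≫ D.t)
          (by rw [Category.assoc, ← cs, ← Category.assoc, h2])
          (by rw [Category.assoc, hc', ← Category.assoc, h1])
        have := key l' a₁ a a₂ ha₁ (by rwa [h2]) (by rwa [h1])
        refine pullback.hom_ext ?_ (h1.trans hl2.symm)
        exact (hu _ ((Subtype.ext this : vcomp a a₂ = a₁) ▸ ha₁)).trans hl1.symm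
    exact ⟨⟨ct.symm⟩, ⟨PullbackCone.IsLimit.mk _ (fun q => (ex q.fst q.snd q.condition).choose)
      (fun q => (ex q.fst q.snd q.condition).choose_spec.1.1)
      (fun q => (ex q.fst q.snd q.condition).choose_spec.1.2)
      (fun q m h1 h2 => (ex q.fst q.snd q.condition).choose_spec.2 m ⟨h1, h2⟩)⟩⟩

end Pairs

end Groth.Agent.StFib.LqfSlice
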