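import Groth.Agent.StFib.LqfSlice.Scheme
import Groth.Agent.StFib.LqfSlice.Groupoid
import Groth.Agent.StFib.RatLift.SmoothBase
import Groth.Agent.AlgSp.SchImageQC
import Groth.Agent.AlgSpB.Art.GoodPc

/-!
# Flat locally quasi-finite covers of quasi-DM stacks
-/

set_option autoImplicit false
set_option linter.unusedVariables false
set_option backward.isDefEq.respectTransparency false
set_option backward.isDefEq.respectTransparency.types false

universe u

open CategoryTheory CategoryTheory.Limits AlgebraicGeometry Opposite FibCat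
open Groth.Agent.IsoCls

namespace Groth.Agent.StFib.LqfSlice

/-- An open set containing the closed points of all fibres is everything. -/
theorem eq_univ_of_closedPoints {U S : Scheme.{u}} (f : U ⟶ S) [LocallyOfFiniteType f] {V : Set U} (hV : IsOpen V)
    (h : ∀ u₀ : U, IsClosed ({f.asFiber u₀} : Set (f.fiber (f u₀))) → u₀ ∈ V) : V = Set.univ := by
  refine Set.eq_univ_of_forall fun u => ?_
  by_contra hu
  have key : ∀ (σ : S) (u₁ : U) (e : f u₁ = σ),
      IsClosed ({(f.fiberHomeo σ).symm ⟨u₁, e⟩} : Set (f.fiber σ)) → u₁ ∈ V := by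
    rintro σ u₁ rfl hc
    exact h u₁ hc
  have : LocallyOfFiniteType (f.fiberToSpecResidueField (f u)) :=
    MorphismProperty.pullback_snd _ _ ‹LocallyOfFiniteType f›
  have : JacobsonSpace (f.fiber (f u)) := LocallyOfFiniteType.jacobsonSpace (f.fiberToSpecResidueField (f u))
  let Z : Set (f.fiber (f u)) := (f.fiberι (f u)) ⁻¹' Vᶜ
  have hZ : IsClosed Z := hV.isClosed_compl.preimage (f.fiberι (f u)).continuous
  have hZne : Z.Nonempty := ⟨f.asFiber u, by rwa [Set.mem_preimage, Scheme.Hom.fiberι_asFiber]⟩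
  obtain ⟨z, hzZ, hz⟩ := nonempty_inter_closedPoints hZne hZ.isLocallyClosed
  have e : f (f.fiberι (f u) z) = f u := by
    have := (f.fiberHomeo (f u) z).2
    rwa [Scheme.Hom.fiberHomeo_apply] at this
  refine hzZ (key (f u) _ e ?_)
  have : (f.fiberHomeo (f u)).symm ⟨f.fiberι (f u) z, e⟩ = z :=
    (f.fiberι (f u)).isEmbedding.injective (f.fiberι_fiberHomeo_symm _ _)
  rw [this]
  exact hz

variable {S : Scheme.{u}} {𝒳 : AlgSt.Cat S}

theorem standard_lqf : Groth.Agent.AlgSpCov.Standard.{u} @LocallyQuasiFinite :=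
  ⟨inferInstance, inferInstance, Groth.Agent.AlgSpCov.etaleLocal_locallyQuasiFinite,
    fun _ _ e he => Groth.Agent.AlgSpCov.etale_le_locallyQuasiFinite _ _ e he⟩

/-- A cover by slices. -/
theorem exists_slices {U R P : Over S} (s t : R ⟶ U) [Smooth s.left] [Smooth t.left] [Surjective s.left]
    [LocallyOfFiniteType U.hom] {p₁ p₂ : P ⟶ U} (sqP : IsPullback p₁.left p₂.left U.hom U.hom) (d : R ⟶ P)
    [LocallyQuasiFinite d.left] (hd₁ : d ≫ p₁ = s) (hd₂ : d ≫ p₂ = t)
    {c : pullback t t ⟶ R} (sq₁ : IsPullback (pullback.fst t t) c s s)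
    (sq₂ : IsPullback (pullback.snd t t) c s t) :
    ∃ (W : Over S) (g : W ⟶ U), Flat (pullback.fst t g ≫ s).left ∧
      LocallyOfFinitePresentation (pullback.fst t g ≫ s).left ∧
      LocallyQuasiFinite (pullback.fst t g ≫ s).left ∧ Surjective (pullback.fst t g ≫ s).left := by
  let κ := {u₀ : U.left // IsClosed ({U.hom.asFiber u₀} : Set (U.hom.fiber (U.hom u₀)))}
  have hex : ∀ j : κ, _ := fun j => exists_slice s.left t.left
    (AlgSpB.isPullback_map_left (IsPullback.of_hasPullback t t)) (AlgSpB.isPullback_map_left sq₁)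
    (AlgSpB.isPullback_map_left sq₂) j.1 (fun x y hxy hx hy e => eq_of_specializes_pair sqP d.left j.1 j.2 hxy
      (by rw [← Scheme.Hom.comp_apply, ← Over.comp_left, hd₁]; exact hx)
      (by rw [← Scheme.Hom.comp_apply, ← Over.comp_left, hd₁]; exact hy)
      (by rw [← Scheme.Hom.comp_apply, ← Scheme.Hom.comp_apply, ← Over.comp_left, hd₂]; exact e))
  choose Wc gc Yc a b hsq hgl hfl hqf hfp hmem using hex
  let Wo : κ → Over S := fun j => Over.mk (gc j ≫ U.hom)
  let go : ∀ j, Wo j ⟶ U := fun j => Over.homMk (gc j) rfl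
  obtain ⟨W, ε, l, hε, hcov, -, hl⟩ :=
    Groth.Agent.AlgSp.SchImageQC.exists_sigma_glue Wo (fun j => (AlgSp.yon S).map (go j))
  obtain ⟨g, rfl⟩ := (AlgSp.yon S).map_surjective l
  have hεg : ∀ j, (ε j).left ≫ g.left = gc j := fun j => by
    have : ε j ≫ g = go j := (AlgSp.yon S).map_injective (by rw [Functor.map_comp]; exact hl j)
    exact congrArg (fun k => k.left) this
  let A := (pullback.fst t g).left
  let B := (pullback.snd t g).left
  have sq : IsPullback A B t.left g.left := AlgSpB.isPullback_map_left (IsPullback.of_hasPullback t g)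
  have hex' : ∀ j, ∃ ψ : Yc j ⟶ (pullback t g).left, IsOpenImmersion ψ ∧ ψ ≫ A = a j ∧
      Set.range ψ = B ⁻¹' Set.range (ε j).left := fun j => by
    obtain ⟨ψ, h1, h2⟩ := sq.exists_lift (a j) (b j ≫ (ε j).left) (by
      rw [Category.assoc, hεg]; exact (hsq j).w)
    have s' : IsPullback ψ (b j) B (ε j).left :=
      (IsPullback.of_bot (by rw [h1, hεg]; exact (hsq j).flip) h2.symm sq.flip).flip
    have := hε j
    refine ⟨ψ, MorphismProperty.of_isPullback s'.flip ‹_›, h1, ?_⟩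
    ext y
    refine ⟨?_, fun hy => ?_⟩
    · rintro ⟨z, rfl⟩
      exact ⟨b j z, congrArg (fun k : Yc j ⟶ W.left => k z) h2.symm⟩
    · obtain ⟨w, hw⟩ := hy
      obtain ⟨z, hz, -⟩ := Groth.Agent.AlgSpB.Art.exists_point_of_isPullback s' y w hw.symm
      exact ⟨z, hz⟩
  choose ψ hψ hψA hψr using hex'
  let 𝒰 : (pullback t g).left.OpenCover := Scheme.Cover.mkOfCovers κ Yc ψ
    (fun y => by
      obtain ⟨j, hj⟩ := hcov (B y)
      have : y ∈ Set.range (ψ j) := by rw [hψr]; exact hj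
      obtain ⟨z, hz⟩ := this
      exact ⟨j, z, hz⟩) hψ
  have hp : ∀ j, ψ j ≫ (pullback.fst t g ≫ s).left = a j ≫ s.left := fun j => by
    rw [Over.comp_left, ← Category.assoc]
    exact congrArg (· ≫ s.left) (hψA j)
  have h1 : Flat (pullback.fst t g ≫ s).left :=
    (IsZariskiLocalAtSource.iff_of_openCover (P := @Flat) 𝒰).2 fun j => by
      show Flat (ψ j ≫ _); rw [hp]; exact hfl j
  have h2 : LocallyOfFinitePresentation (pullback.fst t g ≫ s).left :=
    (IsZariskiLocalAtSource.iff_of_openCover (P := @LocallyOfFinitePresentation) 𝒰).2 fun j => by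
      show LocallyOfFinitePresentation (ψ j ≫ _); rw [hp]; exact hfp j
  have h3 : LocallyQuasiFinite (pullback.fst t g ≫ s).left :=
    (IsZariskiLocalAtSource.iff_of_openCover (P := @LocallyQuasiFinite) 𝒰).2 fun j => by
      show LocallyQuasiFinite (ψ j ≫ _); rw [hp]; exact hqf j
  refine ⟨W, g, h1, h2, h3, ⟨Set.range_eq_univ.1 (eq_univ_of_closedPoints U.hom
    (pullback.fst t g ≫ s).left.isOpenMap.isOpen_range fun u₀ hu₀ => ?_)⟩⟩
  obtain ⟨y, hy⟩ := hmem ⟨u₀, hu₀⟩
  refine ⟨ψ ⟨u₀, hu₀⟩ y, ?_⟩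
  rw [← Scheme.Hom.comp_apply, hp]
  exact hy

/-- A quasi-DM stack with separated diagonal has a flat locally quasi-finite cover by a scheme. -/
theorem exists_lqf_cover (h𝒳 : AlgSt.IsAlgStack Scheme.fppfPrecoverage 𝒳)
    (hsep : AlgSt.RepByAlgSpWith AlgSp.IsSeparatedMor (diag (toSelf 𝒳))) (hqf : AlgSt.IsQuasiDMOver 𝒳)
    (hfp : AlgSt.LocQ (AlgSp.LocP @LocallyOfFinitePresentation) (toSelf 𝒳)) :
    ∃ (W : Over S) (w : overCat W ⥤ᵇ 𝒳),
      AlgSt.RepByAlgSpWith
        (AlgSp.LocP (@Flat ⊓ @LocallyOfFinitePresentation ⊓ @LocallyQuasiFinite) ⊓ AlgSp.IsSurjectiveMor) w := by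
  have h𝒳g : IsFibGrpd 𝒳.p := h𝒳.isStack.1
  obtain ⟨U, V, x, y, k, -, hx, hxs, hy, hk⟩ := hfp
  have : Smooth V.hom := RatLift.smooth_hom_of_rep_toSelf hy
  have : LocallyOfFinitePresentation k.left := scheme_mem_of_locP hk
  have : LocallyOfFinitePresentation U.hom := by rw [← Over.w k]; infer_instance
  obtain ⟨D, P, p₁, p₂, d, hd₁, hd₂, sqP, hdq, hdt, hs, hss, E, hE, ⟨is⟩, ⟨it⟩⟩ :=
    exists_pairs h𝒳 hsep hqf x hx hxs
  obtain ⟨σ, hσs, hσt, hσσ⟩ := D.exists_swap h𝒳g
  have : IsIso σ.left := ⟨σ.left, by rw [← Over.comp_left, hσσ]; rfl, by rw [← Over.comp_left, hσσ]; rfl⟩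
  have : Smooth D.t.left := by rw [← hσs, Over.comp_left]; infer_instance
  obtain ⟨c, sq₁, sq₂⟩ := D.exists_div h𝒳g
  obtain ⟨W, g, hf, hl, hq, hsu⟩ := exists_slices D.s D.t sqP d hd₁ hd₂ sq₁ sq₂
  let x' := BasedFunctor.comp (AlgSt.overMap g) x
  -- the fibre product with the atlas
  obtain ⟨N, hN, ⟨n₁⟩, ⟨n₂⟩⟩ := exists_equiv_pullback D.t g
  let M := fpMap (F := fpSnd x x) (G := AlgSt.overMap g) (F' := BasedFunctor.comp E (fpSnd x x))
    (G' := AlgSt.overMap g) E (BasedFunctor.id _) (BasedFunctor.id _) (Iso.refl _) (Iso.refl _)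
  obtain ⟨C, hC, ⟨c₁⟩, -⟩ := exists_fp_congr it (Iso.refl (AlgSt.overMap g))
  obtain ⟨E', hE', ⟨iE⟩⟩ := exists_fp_assoc x x (AlgSt.overMap g)
  let cov := BasedFunctor.comp (BasedFunctor.comp (BasedFunctor.comp N C) M) E'
  have : (BasedFunctor.id (overCat U)).toFunctor.Faithful := inferInstanceAs (Functor.Faithful (𝟭 _))
  have : (BasedFunctor.id (overCat U)).toFunctor.Full := inferInstanceAs (Functor.Full (𝟭 _))
  have hM : IsEquivOver M := fpMap_isEquivOver _ _ _ _ _ hE (isEquivOver_id _)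
  have hcov : IsEquivOver cov := isEquivOver_comp (isEquivOver_comp (isEquivOver_comp hN hC) hM) hE'
  let p := pullback.fst D.t g ≫ D.s
  have icov : BasedFunctor.comp cov (fpFst x x') ≅ AlgSt.overMap p :=
    isoWhiskerLeft (BasedFunctor.comp (BasedFunctor.comp N C) M) iE ≪≫
      isoWhiskerLeft N (isoWhiskerRight c₁ (BasedFunctor.comp E (fpFst x x))) ≪≫
      isoWhiskerRight n₁ (BasedFunctor.comp E (fpFst x x)) ≪≫
      isoWhiskerLeft (AlgSt.overMap (pullback.fst D.t g)) is ≪≫ overMapCompIso (pullback.fst D.t g) D.s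
  have hxT : AlgSt.RepByAlgSp1 x' := (repByAlgSp1_diag_iff h𝒳g).1 h𝒳.diag W x'
  have hflat : AlgSt.RepByAlgSpWith (AlgSp.LocP @Flat) x := repByAlgSpWith_mono hx fun _ _ _ hm A B a b k ha hb e =>
    (have := hm a b k ha hb e; inferInstance : Flat k.left)
  have hlfp : AlgSt.RepByAlgSpWith (AlgSp.LocP @LocallyOfFinitePresentation) x := repByAlgSpWith_mono hx fun _ _ _ hm A B a b k ha hb e =>
    (have := hm a b k ha hb e; inferInstance : LocallyOfFinitePresentation k.left)
  have main : ∀ {Q : MorphismProperty (AlgSp.Sp S)}, Good Q → AlgSp.IsLocalOnBase AlgSp.IsFppfCover Q →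
      AlgSt.RepByAlgSpWith Q (AlgSt.overMap p) → AlgSt.RepByAlgSpWith Q x' := fun {Q} hQ hQl hp => by
    refine (repByAlgSpWith_iff_fpFst_cover hQ.bc hQl h𝒳g (isFibGrpd_overCat U) hxT hflat hlfp hxs).2 ?_
    obtain ⟨cov', hcov', -, ⟨jc⟩⟩ := isEquivOver_symm hcov
    exact repByAlgSpWith_of_iso _ (isoWhiskerRight jc (fpFst x x'))
      (repByAlgSpWith_comp_isEquivOver (repByAlgSpWith_of_iso _ icov.symm hp) hcov')
  have := FpqcDesc.descendsAlong_locallyQuasiFinite.{u}
  have hF := main (good_locP Groth.Agent.AlgSpCov.standard_flat)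
    (fppfLocal_of_fpqc (Groth.Agent.AlgSpCov.isLocalOnBase_locP Groth.Agent.AlgSpCov.etaleLocal_flat))
    (RatLift.repByAlgSpWith_overMap Groth.Agent.AlgSpCov.standard_flat p hf)
  have hL := main (good_locP Groth.Agent.AlgSpCov.standard_locallyOfFinitePresentation)
    (fppfLocal_of_fpqc (Groth.Agent.AlgSpCov.isLocalOnBase_locP
      Groth.Agent.AlgSpCov.etaleLocal_locallyOfFinitePresentation))
    (RatLift.repByAlgSpWith_overMap Groth.Agent.AlgSpCov.standard_locallyOfFinitePresentation p hl)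
  have hQ := main (good_locP standard_lqf)
    (fppfLocal_of_fpqc (Groth.Agent.AlgSpCov.isLocalOnBase_locP Groth.Agent.AlgSpCov.etaleLocal_locallyQuasiFinite))
    (RatLift.repByAlgSpWith_overMap standard_lqf p hq)
  have hS := main good_surjective SliceDM.fppfLocal_surjective
    ((repByAlgSpWith_iff_of_equiv _ (AlgSt.toOverCat _) (AlgSt.toOverCat U)
      (toOverCat_isEquivOver _) (toOverCat_isEquivOver U) (toOverCatIso p)).2
      (repByAlgSpWith_ofSpMap good_surjective.bc (isAlgSpace_yon _) (isAlgSpace_yon U) _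
        (isSurjectiveMor_of_repWith ((AlgSp.repWith_yon_map_iff _ _).2 hsu))))
  refine ⟨W, x', fun T t => ?_⟩
  obtain ⟨A, e, he, h₁⟩ := hF T t
  have gL := good_locP (S := S) Groth.Agent.AlgSpCov.standard_locallyOfFinitePresentation
  have gQ := good_locP (S := S) standard_lqf
  exact ⟨A, e, he, fun A' B' a b h ha hb w =>
    ⟨⟨h₁ a b h ha hb w, mem_of_rep_chart gL.bc gL.det hL t A e he a b h ha hb w⟩,
      mem_of_rep_chart gQ.bc gQ.det hQ t A e he a b h ha hb w⟩,
    mem_of_rep_chart good_surjective.bc good_surjective.det hS t A e he⟩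

end Groth.Agent.StFib.LqfSlice
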