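import Groth.Agent.AlgSpB.Art.SliceAlg

/-!
# Slicing a flat algebra to relative dimension zero by functions with quasi-finite fibres

The slicing argument of `Groth.Agent.AlgSpB.Art.SliceAlg`, with the epimorphism hypothesis weakened to
discreteness of the fibres of the fibre over the spectrum of the functions used for slicing.
-/

universe u

open TensorProduct
open Groth.Agent.AlgSpB.Art (fibMap exists_fibMap_eq comap_fibMap_over flatAt_equiv flatAt_self mem_map_fibMap_iff
  exists_pow_mul_mem)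

namespace Groth.Agent.StFib.LqfSlice

/-- Comparable primes with the same trace are equal. -/
def DiscreteFibres {A F : Type u} [CommRing A] [CommRing F] (θ : A →+* F) : Prop :=
  ∀ η m : Ideal F, η.IsPrime → m.IsPrime → η ≤ m → η.comap θ = m.comap θ → η = m

/-- An element vanishing somewhere but not everywhere on an open part of a positive dimensional component. -/
theorem exists_elt {k A F : Type u} [Field k] [CommRing A] [CommRing F] [Algebra k F] [Algebra.FiniteType k F]
    (θ₀ : A →+* F) (hdisc : DiscreteFibres θ₀)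
    (η : Ideal F) [η.IsPrime] (hη : ¬ η.IsMaximal) (h : F) (hh : h ∉ η) :
    ∃ (a : A) (Q : Ideal F), Q.IsPrime ∧ η ≤ Q ∧ h ∉ Q ∧ θ₀ a ∉ η ∧ θ₀ a ∈ Q := by
  have : IsJacobsonRing F := isJacobsonRing_of_finiteType (A := k)
  obtain ⟨m, ⟨hηm, hm⟩, hhm⟩ : ∃ m ∈ {J : Ideal F | η ≤ J ∧ J.IsMaximal}, h ∉ m := by
    by_contra hall
    push Not at hall
    refine hh ?_
    rw [← IsJacobsonRing.out' η (Ideal.IsPrime.isRadical ‹_›)]
    exact Ideal.mem_sInf.2 fun {J} hJ => hall J hJ
  obtain ⟨a, ham, haη⟩ := SetLike.exists_of_lt (lt_of_le_of_ne (Ideal.comap_mono hηm) fun e =>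
    hη ((hdisc η m ‹_› hm.isPrime hηm e) ▸ hm))
  exact ⟨a, m, hm.isPrime, hηm, hhm, haη, ham⟩

variable {R B : Type u} [CommRing R] [CommRing B] [Algebra R B] (p : Ideal R) [p.IsPrime]
variable {A : Type u} [CommRing A] (φ : A →+* B)

/-- The points of the sliced fibre. -/
def fibSet (J : Ideal A) (w : B) : Set (PrimeSpectrum (p.Fiber B)) :=
  {P | (J.map φ).map (fibMap p) ≤ P.asIdeal ∧ fibMap p w ∉ P.asIdeal}

set_option maxHeartbeats 1600000 in
theorem exists_slice_qf [Algebra.FinitePresentation R B] [Module.Flat R B] [Nontrivial (p.Fiber B)]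
    (hdisc : DiscreteFibres ((fibMap p).comp φ)) :
    ∃ (J : Ideal A) (Q : Ideal B) (g : B), J.FG ∧ Q.IsPrime ∧ J.map φ ≤ Q ∧ Q.comap (algebraMap R B) = p ∧
      g ∉ Q ∧ (∀ (P : Ideal B) [P.IsPrime], g ∉ P → FlatCA.FlatAt R P (B ⧸ J.map φ)) ∧
      ∀ P : Ideal B, P.IsPrime → g ∉ P → J.map φ ≤ P → P.comap (algebraMap R B) = p → P = Q := by
  classical
  let F := p.Fiber B
  have : IsNoetherianRing F := Algebra.FiniteType.isNoetherianRing p.ResidueField F
  suffices key : ∀ (I : Ideal F) (J : Ideal A) (w : B), J.FG → (fibSet p φ J w).Nonempty →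
      PrimeSpectrum.vanishingIdeal (fibSet p φ J w) = I →
      (∀ (P : Ideal B) [P.IsPrime], w ∉ P → FlatCA.FlatAt R P (B ⧸ J.map φ)) →
      ∃ (J' : Ideal A) (w' : B), J'.FG ∧ (fibSet p φ J' w').Nonempty ∧
        (∀ P ∈ fibSet p φ J' w', P.asIdeal.IsMaximal) ∧
        (∀ (P : Ideal B) [P.IsPrime], w' ∉ P → FlatCA.FlatAt R P (B ⧸ J'.map φ)) by
    obtain ⟨P₀⟩ : Nonempty (PrimeSpectrum F) := inferInstance
    obtain ⟨J, w, hJ, ⟨Q₀, hQ₀⟩, hmax, hflat⟩ := key _ ⊥ 1 Submodule.fg_bot
      ⟨P₀, by simp, by rw [map_one]; exact fun h => P₀.2.ne_top (Ideal.eq_top_of_isUnit_mem _ h isUnit_one)⟩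
      rfl fun P _ _ => flatAt_equiv (Submodule.quotEquivOfEqBot _ Ideal.map_bot).symm P (flatAt_self P)
    -- finitely many, closed points
    let S := fibSet p φ J w
    have hsub : ∀ P ∈ S, P.asIdeal ∈ ((J.map φ).map (fibMap p)).minimalPrimes := by
      intro P hP
      obtain ⟨P', hP', hle⟩ := Ideal.exists_minimalPrimes_le hP.1
      have := hP'.1.1
      have hmax' := hmax ⟨P', hP'.1.1⟩ ⟨hP'.1.2, fun h => hP.2 (hle h)⟩
      rwa [← hmax'.eq_of_le P.2.ne_top hle]
    have hfin : S.Finite := Set.Finite.of_injOn (f := PrimeSpectrum.asIdeal) hsub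
      (fun a _ b _ => PrimeSpectrum.ext) (Ideal.finite_minimalPrimes_of_isNoetherianRing F _)
    let Q := Q₀.asIdeal.comap (fibMap p)
    have hQp : Q.IsPrime := Ideal.IsPrime.comap _
    have hsep : ∀ P ∈ S, P ≠ Q₀ → ∃ b : B, fibMap p b ∈ P.asIdeal ∧ fibMap p b ∉ Q₀.asIdeal := by
      intro P hP hne
      by_contra hall
      push Not at hall
      refine hne (PrimeSpectrum.ext ((hmax P hP).eq_of_le Q₀.2.ne_top fun x hx => ?_))
      obtain ⟨b, hb⟩ := exists_fibMap_eq p x
      exact (hb Q₀.asIdeal).1 (hall b ((hb P.asIdeal).2 hx))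
    choose! b hb1 hb2 using hsep
    let g := w * ∏ P ∈ hfin.toFinset.erase Q₀, b P
    have hg : g ∉ Q := fun h => by
      rcases hQp.mem_or_mem h with h | h
      · exact hQ₀.2 h
      · obtain ⟨P, hP, hPQ⟩ := (hQp.prod_mem_iff).1 h
        rw [Finset.mem_erase, Set.Finite.mem_toFinset] at hP
        exact hb2 P hP.2 hP.1 hPQ
    refine ⟨J, Q, g, hJ, hQp, Ideal.map_le_iff_le_comap.1 hQ₀.1, comap_fibMap_over p _, hg,
      fun P _ h => hflat P fun hw => h (P.mul_mem_right _ hw), fun P hP hgP hJP hPp => ?_⟩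
    -- a prime of the fibre
    obtain ⟨P', rfl⟩ : ∃ P' : PrimeSpectrum F, P'.asIdeal.comap (fibMap p) = P := by
      obtain ⟨⟨q, hq⟩, e⟩ : ∃ q : (PrimeSpectrum.comap (algebraMap R B)) ⁻¹' {⟨p, ‹_›⟩}, q.1.asIdeal = P :=
        ⟨⟨⟨P, hP⟩, by rw [Set.mem_preimage, Set.mem_singleton_iff]; exact PrimeSpectrum.ext hPp⟩, rfl⟩
      let q' : PrimeSpectrum F := PrimeSpectrum.preimageEquivFiber R B ⟨p, ‹_›⟩ ⟨q, hq⟩
      refine ⟨q', ?_⟩
      have := congrArg (fun x => x.1.asIdeal) ((PrimeSpectrum.preimageEquivFiber R B ⟨p, ‹_›⟩).symm_apply_apply ⟨q, hq⟩)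
      exact this.trans e
    have hP'S : P' ∈ S := ⟨Ideal.map_le_iff_le_comap.2 hJP, fun hw => hgP (Ideal.mul_mem_right _ _ hw)⟩
    by_contra hne
    have hne' : P' ≠ Q₀ := fun e => hne (by rw [e])
    refine hgP (Ideal.mul_mem_left _ _ (Ideal.prod_mem _ (i := P') ?_ (hb1 P' hP'S hne')))
    rw [Finset.mem_erase, Set.Finite.mem_toFinset]
    exact ⟨hne', hP'S⟩
  intro I
  induction I using IsNoetherian.induction with
  | hgt I ih =>
    intro J w hJ hne hI hflat
    by_cases hall : ∀ P ∈ fibSet p φ J w, P.asIdeal.IsMaximal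
    · exact ⟨J, w, hJ, hne, hall, hflat⟩
    push Not at hall
    obtain ⟨P₀, hP₀, hP₀max⟩ := hall
    let JF := (J.map φ).map (fibMap p)
    obtain ⟨η, hη, hηP⟩ := Ideal.exists_minimalPrimes_le hP₀.1
    have : η.IsPrime := hη.1.1
    have hηmax : ¬ η.IsMaximal := fun h => hP₀max (h.eq_of_le P₀.2.ne_top hηP ▸ h)
    have hwη : fibMap p w ∉ η := fun h => hP₀.2 (hηP h)
    have hηS : (⟨η, ‹_›⟩ : PrimeSpectrum F) ∈ fibSet p φ J w := ⟨hη.1.2, hwη⟩
    -- avoid the other associated primes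
    have hchoice : ∀ P ∈ associatedPrimes F (F ⧸ JF), P ≠ η → ∃ x ∈ P, x ∉ η := by
      intro P hP hne
      refine SetLike.not_le_iff_exists.1 fun hle => hne (le_antisymm hle (hη.2 ⟨hP.isPrime, ?_⟩ hle))
      obtain ⟨_, c, rfl⟩ := hP
      intro y hy
      refine Ideal.le_radical ?_
      rw [Submodule.mem_colon_singleton, Submodule.mem_bot]
      obtain ⟨c, rfl⟩ := Ideal.Quotient.mk_surjective c
      show Ideal.Quotient.mk JF (y * c) = 0
      rw [Ideal.Quotient.eq_zero_iff_mem]
      exact Ideal.mul_mem_right _ _ hy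
    choose! x hx1 hx2 using hchoice
    let T := (associatedPrimes.finite F (F ⧸ JF)).toFinset.erase η
    obtain ⟨b, hb⟩ := exists_fibMap_eq p (∏ P ∈ T, x P)
    let h : B := b * w
    have hbη : fibMap p b ∉ η := fun hbm => by
      obtain ⟨P, hP, hPη⟩ := (Ideal.IsPrime.prod_mem_iff (p := η)).1 ((hb η).1 hbm)
      rw [Finset.mem_erase, Set.Finite.mem_toFinset] at hP
      exact hx2 P hP.2 hP.1 hPη
    have hhη : fibMap p h ∉ η := by
      rw [map_mul]; exact fun hm => (‹η.IsPrime›.mem_or_mem hm).elim hbη hwη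
    obtain ⟨a, Q', hQ', hηQ', hhQ', haη, haQ'⟩ := exists_elt (k := p.ResidueField) _ hdisc η hηmax (fibMap p h) hhη
    let Q := Q'.comap (fibMap p)
    have : Q.IsPrime := Ideal.IsPrime.comap _
    have hQp : Q.comap (algebraMap R B) = p := comap_fibMap_over p Q'
    -- the map
    let M := B ⧸ J.map φ
    have : Module.FinitePresentation B M := Module.finitePresentation_of_surjective (J.map φ).mkQ
      (Submodule.mkQ_surjective _) (by rw [Submodule.ker_mkQ]; exact hJ.map φ)
    let u : M →ₗ[B] M := LinearMap.lsmul B M (φ a)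
    have hfib : ∀ m : M, u m ∈ (Q.comap (algebraMap R B)).map (algebraMap R B) • (⊤ : Submodule B M) →
        ∃ s ∉ Q, s • m ∈ (Q.comap (algebraMap R B)).map (algebraMap R B) • (⊤ : Submodule B M) := by
      rw [hQp]
      have hmem : ∀ y : B, Submodule.Quotient.mk y ∈ p.map (algebraMap R B) • (⊤ : Submodule B M) ↔
          y ∈ J.map φ ⊔ p.map (algebraMap R B) := fun y => by
        rw [← (J.map φ).mkQ_apply, ← Submodule.mem_comap,
          show (⊤ : Submodule B M) = (⊤ : Submodule B B).map (J.map φ).mkQ from by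
            rw [Submodule.map_top, Submodule.range_mkQ],
          ← Submodule.map_smul'', Submodule.comap_map_eq, Submodule.ker_mkQ, sup_comm, smul_eq_mul,
          ← Ideal.one_eq_top, mul_one]
      intro m hm
      obtain ⟨m, rfl⟩ := Submodule.mkQ_surjective _ m
      replace hm : φ a * m ∈ J.map φ ⊔ p.map (algebraMap R B) := (hmem _).1 hm
      have h1 : fibMap p (φ a) * fibMap p m ∈ JF := by
        rw [← map_mul]
        exact (mem_map_fibMap_iff p _ _).2 ⟨1, fun h1 => (‹p.IsPrime›).ne_top (p.eq_top_of_isUnit_mem h1 isUnit_one), by rw [map_one, one_mul]; exact hm⟩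
      obtain ⟨N, hN⟩ := exists_pow_mul_mem JF (fibMap p h) (fibMap p (φ a)) (fibMap p m) (fun P hP hPa => by
        have hne : P ≠ η := fun e => haη (e ▸ hPa)
        have := hP.isPrime
        have hbP : fibMap p b ∈ P := (hb P).2 (Ideal.prod_mem _ (i := P) (f := x) (s := T) (by
          rw [Finset.mem_erase, Set.Finite.mem_toFinset]; exact ⟨hne, hP⟩) (hx1 P hP hne))
        rw [map_mul]; exact P.mul_mem_right _ hbP) h1
      rw [← map_pow, ← map_mul] at hN
      obtain ⟨c, hc, hcm⟩ := (mem_map_fibMap_iff p _ _).1 hN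
      refine ⟨algebraMap R B c * h ^ N, fun hs => ?_, ?_⟩
      · rcases (inferInstance : Q.IsPrime).mem_or_mem hs with hs | hs
        · exact hc (hQp ▸ (Ideal.mem_comap.2 hs : c ∈ Q.comap (algebraMap R B)))
        · exact hhQ' ((inferInstance : Q.IsPrime).mem_of_pow_mem N hs)
      · rw [Submodule.mkQ_apply, ← Submodule.Quotient.mk_smul, hmem, smul_eq_mul, mul_assoc]
        exact hcm
    have hwQ : w ∉ Q := fun hwQ => hhQ' (by
      rw [map_mul]; exact Q'.mul_mem_left _ hwQ)
    have hmemQ := FlatOpen.injective_coker_flat_of_fibEq R B u Q (hflat Q hwQ) hfib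
    obtain ⟨-, ⟨_, ⟨g, rfl⟩, rfl⟩, hgQ, hg⟩ := PrimeSpectrum.isBasis_basic_opens.exists_subset_of_mem_open
      (show (⟨Q, inferInstance⟩ : PrimeSpectrum B) ∈ _ from hmemQ) (FlatOpen.isOpen_injective_coker_flat R B u)
    let J' := J ⊔ Ideal.span {a}
    let w' := g * h
    have hJF : JF ≤ ((J'.map φ).map (fibMap p)) := Ideal.map_mono (Ideal.map_mono le_sup_left)
    have hsub : fibSet p φ J' w' ⊆ fibSet p φ J w := fun P hP =>
      ⟨hJF.trans hP.1, fun hw => hP.2 (by rw [map_mul, map_mul]; exact P.asIdeal.mul_mem_left _ (P.asIdeal.mul_mem_left _ hw))⟩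
    have haS : fibMap p (φ a) ∈ PrimeSpectrum.vanishingIdeal (fibSet p φ J' w') := by
      rw [PrimeSpectrum.mem_vanishingIdeal]
      exact fun P hP => hP.1 (Ideal.mem_map_of_mem _ (Ideal.mem_map_of_mem _ (Ideal.mem_sup_right (Ideal.mem_span_singleton_self a) : a ∈ J')))
    have hlt : I < PrimeSpectrum.vanishingIdeal (fibSet p φ J' w') := by
      rw [← hI]
      refine lt_of_le_of_ne (PrimeSpectrum.vanishingIdeal_anti_mono hsub) fun e => ?_
      rw [← e, PrimeSpectrum.mem_vanishingIdeal] at haS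
      exact haη (haS _ hηS)
    refine ih _ hlt J' w' (Submodule.FG.sup hJ (Submodule.fg_span_singleton a)) ⟨⟨Q', hQ'⟩, ?_, ?_⟩ rfl fun P hP hw' => ?_
    · rw [Ideal.map_map, Ideal.map_le_iff_le_comap, sup_le_iff, Ideal.span_singleton_le_iff_mem]
      refine ⟨?_, haQ'⟩
      rw [← Ideal.map_le_iff_le_comap, ← Ideal.map_map]
      exact hη.1.2.trans hηQ'
    · show fibMap p (g * h) ∉ Q'
      rw [map_mul]
      exact fun hm => (hQ'.mem_or_mem hm).elim hgQ hhQ'
    · have hgP : g ∉ P := fun hgm => hw' (P.mul_mem_right _ hgm)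
      have hC := (hg (show (⟨P, hP⟩ : PrimeSpectrum B) ∈ ↑(PrimeSpectrum.basicOpen g) from hgP)).1
      let π : M →ₗ[B] B ⧸ J'.map φ := Submodule.factor (Ideal.map_mono le_sup_left)
      have hπ : Function.Surjective π := Submodule.factor_surjective _
      have hker : LinearMap.range u = LinearMap.ker π := by
        ext z
        obtain ⟨z, rfl⟩ := Submodule.mkQ_surjective _ z
        rw [LinearMap.mem_range, LinearMap.mem_ker]
        show (∃ y, u y = Submodule.Quotient.mk z) ↔ (Submodule.Quotient.mk z : B ⧸ J'.map φ) = 0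
        rw [Submodule.Quotient.mk_eq_zero, Ideal.map_sup, Ideal.map_span, Set.image_singleton]
        constructor
        · rintro ⟨y, hy⟩
          obtain ⟨y, rfl⟩ := Submodule.mkQ_surjective _ y
          rw [LinearMap.lsmul_apply, Submodule.mkQ_apply, ← Submodule.Quotient.mk_smul, Submodule.Quotient.eq] at hy
          have : z = -((φ a • y) - z) + φ a * y := by simp [smul_eq_mul]
          rw [this]
          exact add_mem (Ideal.mem_sup_left (neg_mem hy))
            (Ideal.mem_sup_right (Ideal.mul_mem_right _ _ (Ideal.mem_span_singleton_self _)))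
        · intro hz
          obtain ⟨j, hj, s, hs, rfl⟩ := Submodule.mem_sup.1 hz
          obtain ⟨t, rfl⟩ := Ideal.mem_span_singleton'.1 hs
          refine ⟨Submodule.Quotient.mk t, ?_⟩
          rw [LinearMap.lsmul_apply, ← Submodule.Quotient.mk_smul, Submodule.Quotient.eq, smul_eq_mul,
            mul_comm, sub_add_cancel_right]
          exact neg_mem hj
      let E := (Submodule.quotEquivOfEq _ _ hker).trans (π.quotKerEquivOfSurjective hπ)
      exact flatAt_equiv E P hC

end Groth.Agent.StFib.LqfSlice
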